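import Cfsg.Agent.H718.NBIH
import Cfsg.Agent.H33.IM
import Cfsg.Agent.H674.Codegree

/-!
# Nonprincipal blocks: tools for the small sporadic groups (helper119, hub S5003)

* `nb_of_im` : `p² ∤ |G|`; `nb_of_im_pow`: a character of degree divisible by the full power of `p`;
* `nb_of_four` : `|C(x)| ≤ 36` and a four-group of `C(x)` on which `C(x)` acts with order 3.
-/

set_option autoImplicit false

namespace Cfsg.Agent.H119.NB

open Cfsg Subgroup Cfsg.Agent.H7.NBp Cfsg.Agent.H718.NBIH Cfsg.Agent.H33

section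

variable {p : ℕ} [hp : Fact p.Prime] {G : Type*} [Group G] [Finite G]

theorem nb_of_im_pow {k : ℕ} (h : IM (p ^ (k + 1)) G) (h2 : ¬ p ^ (k + 2) ∣ Nat.card G) : NB p G := by
  obtain ⟨χ, hχ⟩ := h
  refine NB.of_dz' χ ?_ ?_
  · intro h1
    rw [h1] at hχ
    have h3 := Nat.dvd_one.1 hχ
    have h4 : 1 < p ^ (k + 1) := Nat.one_lt_pow (Nat.succ_ne_zero k) hp.out.one_lt
    omega
  · intro hd
    apply h2
    obtain ⟨a, ha⟩ := hd
    obtain ⟨b, hb⟩ := hχ
    have h3 : charDegree (χ : G → ℂ) ∣ Nat.card G := H674.Codegree.charDegree_dvd_card χ.2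
    obtain ⟨c, hc⟩ := h3
    have h0 : 0 < charDegree (χ : G → ℂ) := by
      rcases Nat.eq_zero_or_pos (charDegree (χ : G → ℂ)) with h | h
      · rw [h, zero_mul] at hc
        exact absurd hc Nat.card_pos.ne'
      · exact h
    rw [hc, Nat.mul_div_cancel_left _ h0] at ha
    rw [hc, ha, hb]
    exact ⟨b * a, by ring⟩

theorem nb_of_im (h : IM p G) (h2 : ¬ p ^ 2 ∣ Nat.card G) : NB p G :=
  nb_of_im_pow (k := 0) (by simpa using h) h2

end

section

variable {G : Type*} [Group G] [Finite G]

omit [Finite G] in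
theorem centralizer_zp (x : G) : centralizer ((zpowers x : Subgroup G) : Set G) = centralizer ({x} : Set G) := by
  rw [zpowers_eq_closure, centralizer_closure]

/-- `|C(x)| ≤ 36`, `x` of order 3, and a four-group -/
theorem nb_of_four {x d : G} (hx : orderOf x = 3) (hC : Nat.card ↥(centralizer ({x} : Set G)) ≤ 36)
    (hd : orderOf d = 3) (hdx : d * x = x * d) (hdn : d ∉ zpowers x) (V : Subgroup G) (hV : Nat.card V = 4)
    (hVx : ∀ v ∈ V, v * x = x * v) (hVd : ∀ v ∈ V, d * v * d⁻¹ ∈ V) : NB 3 G := by
  have hp : Fact (Nat.Prime 3) := ⟨by norm_num⟩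
  -- the normalizer of `V` in `C(x)`
  have hVC : V ≤ centralizer ({x} : Set G) := fun v hv => mem_centralizer_singleton_iff.2 (hVx v hv)
  set N : Subgroup G := centralizer ({x} : Set G) ⊓ normalizer (V : Set G) with hN
  have hxN : x ∈ N := by
    refine mem_inf.2 ⟨mem_centralizer_singleton_iff.2 rfl, ?_⟩
    rw [mem_normalizer_iff]
    intro v
    constructor
    · intro hv
      rw [← hVx v hv, mul_inv_cancel_right]
      exact hv
    · intro hv
      have h1 := hVx _ hv
      have h2 : v = x⁻¹ * (x * v * x⁻¹) * x := by group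
      rw [h2, mul_assoc, h1, ← mul_assoc, inv_mul_cancel, one_mul]
      exact hv
  have hdN : d ∈ N := by
    refine mem_inf.2 ⟨mem_centralizer_singleton_iff.2 hdx, ?_⟩
    have h1 : ∀ k : ℕ, ∀ v ∈ V, d ^ k * v * (d ^ k)⁻¹ ∈ V := by
      intro k
      induction k with
      | zero => intro v hv; simpa using hv
      | succ k ihk =>
        intro v hv
        have h2 : d ^ (k + 1) * v * (d ^ (k + 1))⁻¹ = d * (d ^ k * v * (d ^ k)⁻¹) * d⁻¹ := by
          rw [pow_succ']
          group
        rw [h2]
        exact hVd _ (ihk v hv)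
    have hd3 : d ^ 3 = 1 := by rw [← hd, pow_orderOf_eq_one]
    have hdi : d ^ 2 = d⁻¹ := by
      apply eq_inv_of_mul_eq_one_left
      rw [← pow_succ]
      exact hd3
    rw [mem_normalizer_iff]
    intro v
    refine ⟨hVd v, fun hv => ?_⟩
    have h2 := h1 2 _ hv
    rw [hdi] at h2
    have h3 : d⁻¹ * (d * v * d⁻¹) * d⁻¹⁻¹ = v := by group
    rwa [h3] at h2
  have hVN : V ≤ N := le_inf hVC le_normalizer
  have h4 : 4 ∣ Nat.card N := by
    rw [← hV]
    exact card_dvd_of_le hVN
  have h9 : 9 ∣ Nat.card N := by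
    set x' : N := ⟨x, hxN⟩ with hx'
    set d' : N := ⟨d, hdN⟩ with hd'
    have hxo : orderOf x' = 3 := by rw [← hx, ← Subgroup.orderOf_coe]
    have hcen : zpowers x' ≤ center N := by
      rw [zpowers_le, mem_center_iff]
      intro y
      exact Subtype.ext (mem_centralizer_singleton_iff.1 y.2.1)
    have hnor : (zpowers x').Normal := by
      constructor
      intro z hz g
      rw [mem_center_iff.1 (hcen hz) g, mul_inv_cancel_right]
      exact hz
    have h5 : Nat.card N = Nat.card (N ⧸ zpowers x') * 3 := by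
      rw [Subgroup.card_eq_card_quotient_mul_card_subgroup (zpowers x'), Nat.card_zpowers, hxo]
    have h6 : orderOf (QuotientGroup.mk' (zpowers x') d') = 3 := by
      apply orderOf_eq_prime
      · rw [← map_pow]
        have h7 : d' ^ 3 = 1 := Subtype.ext (by
          show d ^ 3 = 1
          rw [← hd, pow_orderOf_eq_one])
        rw [h7, map_one]
      · intro h7
        have h8 : d' ∈ zpowers x' := by
          rw [← QuotientGroup.ker_mk' (zpowers x')]
          exact h7
        obtain ⟨k, hk⟩ := h8
        exact hdn ⟨k, congrArg Subtype.val hk⟩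
    have h7 : 3 ∣ Nat.card (N ⧸ zpowers x') := h6 ▸ orderOf_dvd_natCard _
    obtain ⟨k, hk⟩ := h7
    exact ⟨k, by rw [h5, hk]; ring⟩
  have h36 : 36 ∣ Nat.card N := Nat.Coprime.mul_dvd_of_dvd_of_dvd (by norm_num : Nat.Coprime 4 9) h4 h9
  have hNC : N = centralizer ({x} : Set G) := by
    apply Subgroup.eq_of_le_of_card_ge inf_le_left
    exact hC.trans (Nat.le_of_dvd Nat.card_pos h36)
  refine NB.of_pprime_le (zpowers x) (IsPGroup.of_card (n := 1) (by rw [Nat.card_zpowers, hx, pow_one])) V ?_ ?_ ?_ ?_
  · rw [centralizer_zp]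
    exact hVC
  · intro c hc k hk
    rw [centralizer_zp, ← hNC] at hc
    exact (mem_normalizer_iff.1 hc.2 k).1 hk
  · rw [hV]
    norm_num
  · rintro rfl
    rw [Subgroup.card_bot] at hV
    omega

/-- the same with explicit generators of the four-group -/
theorem nb_of_four' {x d v w : G} (hx : orderOf x = 3) (hC : Nat.card ↥(centralizer ({x} : Set G)) ≤ 36)
    (hd : orderOf d = 3) (hdx : d * x = x * d) (hdn : d ∉ zpowers x) (hv : v * v = 1) (hw : w * w = 1)
    (hvw : v * w = w * v) (hv1 : v ≠ 1) (hw1 : w ≠ 1) (hne : v ≠ w) (hvx : v * x = x * v) (hwx : w * x = x * w)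
    (hdv : d * v = w * d) (hdw : d * w = v * w * d) : NB 3 G := by
  let V : Subgroup G :=
    { carrier := {1, v, w, v * w}
      one_mem' := by simp
      mul_mem' := by
        have e1 : v * (v * w) = w := by rw [← mul_assoc, hv, one_mul]
        have e2 : w * (v * w) = v := by rw [hvw, ← mul_assoc, hw, one_mul]
        have e3 : v * w * v = w := by rw [hvw, mul_assoc, hv, mul_one]
        have e4 : v * w * w = v := by rw [mul_assoc, hw, mul_one]
        have e5 : v * w * (v * w) = 1 := by rw [← mul_assoc, e3, hw]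
        rintro a b ha hb
        simp only [Set.mem_insert_iff, Set.mem_singleton_iff] at ha hb ⊢
        rcases ha with rfl | rfl | rfl | rfl <;> rcases hb with rfl | rfl | rfl | rfl <;>
          simp [hv, hw, e1, e2, e3, e4, e5, hvw.symm]
      inv_mem' := by
        have i1 : v⁻¹ = v := inv_eq_of_mul_eq_one_left hv
        have i2 : w⁻¹ = w := inv_eq_of_mul_eq_one_left hw
        rintro a ha
        simp only [Set.mem_insert_iff, Set.mem_singleton_iff] at ha ⊢
        rcases ha with rfl | rfl | rfl | rfl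
        · simp
        · simp [i1]
        · simp [i2]
        · rw [mul_inv_rev, i1, i2, ← hvw]
          simp }
  have hV : Nat.card V = 4 := by
    have h1 : Nat.card V = Set.ncard ({1, v, w, v * w} : Set G) := rfl
    rw [h1]
    have n1 : v ≠ v * w := by simpa using hw1
    have n2 : w ≠ v * w := by simpa using hv1
    have n3 : (1 : G) ≠ v * w := by
      intro h
      apply hne
      have h2 : v = w⁻¹ := eq_inv_of_mul_eq_one_left h.symm
      rw [h2]
      exact inv_eq_of_mul_eq_one_left hw
    rw [Set.ncard_insert_of_notMem, Set.ncard_insert_of_notMem, Set.ncard_insert_of_notMem, Set.ncard_singleton]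
    · simpa using n2
    · simp only [Set.mem_insert_iff, Set.mem_singleton_iff, not_or]
      exact ⟨hne, n1⟩
    · simp only [Set.mem_insert_iff, Set.mem_singleton_iff, not_or]
      exact ⟨hv1.symm, hw1.symm, n3⟩
  refine nb_of_four hx hC hd hdx hdn V hV ?_ ?_
  · intro a ha
    have ha' : a ∈ ({1, v, w, v * w} : Set G) := ha
    simp only [Set.mem_insert_iff, Set.mem_singleton_iff] at ha'
    rcases ha' with rfl | rfl | rfl | rfl
    · rw [one_mul, mul_one]
    · exact hvx
    · exact hwx
    · rw [mul_assoc, hwx, ← mul_assoc, hvx, mul_assoc]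
  · intro a ha
    have ha' : a ∈ ({1, v, w, v * w} : Set G) := ha
    show d * a * d⁻¹ ∈ ({1, v, w, v * w} : Set G)
    simp only [Set.mem_insert_iff, Set.mem_singleton_iff] at ha' ⊢
    rcases ha' with rfl | rfl | rfl | rfl
    · left
      group
    · right; right; left
      rw [hdv, mul_inv_cancel_right]
    · right; right; right
      rw [hdw, mul_inv_cancel_right]
    · right; left
      rw [← mul_assoc, hdv, mul_assoc w d w, hdw, ← mul_assoc, mul_inv_cancel_right, hvw, ← mul_assoc, hw, one_mul]

theorem na_of_card {S : Type*} [Group S] [Finite S] [IsSimpleGroup S] (h : ¬ (Nat.card S).Prime) :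
    ¬ IsMulCommutative S := by
  intro hc
  apply h
  let _ : CommGroup S := { (inferInstance : Group S) with mul_comm := hc.is_comm.comm }
  exact IsSimpleGroup.prime_card

end

end Cfsg.Agent.H119.NB
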