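import Cfsg.Agent.H119.NB.RowM
import Cfsg.Agent.H724.IMJOne
import Cfsg.Agent.H724.IMJThree
import Cfsg.Agent.H852.IMJTwo

/-!
# Nonprincipal blocks: `J1`, `J2`, `J3` (helper119, hub S5003)

`nb_j1`, `nb_j2`, `nb_j3`
-/

set_option autoImplicit false

namespace Cfsg.Agent.H119.NB

open Cfsg Subgroup Cfsg.Agent.H7.NBp Cfsg.Agent.H718.NBIH Cfsg.Agent.H33 Cfsg.Agent.H978.NB
open Cfsg.Agent.H852.IMMathieu

theorem nb_j1 {p : ℕ} [Fact p.Prime] (h2 : p ≠ 2) (S : Type) [Group S] [Finite S] [IsSimpleGroup S]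
    (h : Spor.IsoJ1 S) (_ih : IH p (Nat.card S)) : NB p S := by
  have hc : Nat.card S = 175560 := NotCT.Orders.j1 h
  refine nb_small hc (fun hd => H724.IMJOne.im_j1 h hd) fun hd => ?_
  have h4 := prime_cases (n := 175560) Fact.out [2, 2, 2, 3, 5, 7, 11, 19] (by decide)
    ((dvd_pow_self p two_ne_zero).trans hd) (by decide)
  simp only [List.mem_cons, List.not_mem_nil, or_false] at h4
  rcases h4 with rfl | rfl | rfl | rfl | rfl | rfl | rfl | rfl <;> revert hd h2 <;> decide

/-! ### `J2` -/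

/-- commuting elements of order 3 and 5 -/
theorem j2_pair {S : Type} [Group S] [Finite S] (h : Spor.IsoJ2 S) :
    ∃ w z : S, orderOf w = 5 ∧ orderOf z = 3 ∧ z * w = w * z := by
  have hS : Nat.card S = 604800 := NotCT.Orders.j2 h
  have f5 : Fact (Nat.Prime 5) := ⟨by norm_num⟩
  have f3 : Fact (Nat.Prime 3) := ⟨by norm_num⟩
  obtain ⟨t, u, Q, v, ρ, D⟩ := KFacts.J2.Facts.exists_dat_of h
  obtain ⟨f, U, V, H0, F⟩ := J2Type.CentU.main D.F
  have h60 : Nat.card H0 = 60 := by
    have h1 := J2Type.Order.card_centralizer_u D.F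
    rw [F.str.card] at h1
    omega
  obtain ⟨w, hw⟩ : ∃ w : H0, orderOf w = 5 := exists_prime_orderOf_dvd_card' 5 (by rw [h60]; norm_num)
  have hw' : orderOf (w : S) = 5 := by rw [Subgroup.orderOf_coe, hw]
  have h300 := J2Type.Cent5.card_centralizer_five D.F F h60 hS w.2 hw'
  obtain ⟨z, hz⟩ : ∃ z : centralizer ({(w : S)} : Set S), orderOf z = 3 :=
    exists_prime_orderOf_dvd_card' 3 (by rw [h300]; norm_num)
  exact ⟨w, z, hw', by rw [Subgroup.orderOf_coe, hz], mem_centralizer_singleton_iff.1 z.2⟩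

theorem nb_j2 {p : ℕ} [Fact p.Prime] (h2 : p ≠ 2) (S : Type) [Group S] [Finite S] [IsSimpleGroup S]
    (h : Spor.IsoJ2 S) (ih : IH p (Nat.card S)) : NB p S := by
  have hc : Nat.card S = 604800 := NotCT.Orders.j2 h
  have hna : ¬ IsMulCommutative S := na_of_card (by rw [hc]; norm_num)
  obtain ⟨w, z, hw, hz, hzw⟩ := j2_pair h
  by_cases h3 : p = 3
  · subst h3
    refine nb_of_commute (a := 3) hna ih hz Nat.prime_five (by norm_num) hw hzw.symm ?_ ?_
    · intro hd
      have h3 := hd.trans (Subgroup.card_subgroup_dvd_card _)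
      rw [hc] at h3
      norm_num at h3
    · intro j h1 h2
      interval_cases j <;> norm_num
  by_cases h5 : p = 5
  · subst h5
    refine nb_of_commute (a := 2) hna ih hw Nat.prime_three (by norm_num) hz hzw ?_ ?_
    · intro hd
      have h3 := hd.trans (Subgroup.card_subgroup_dvd_card _)
      rw [hc] at h3
      norm_num at h3
    · intro j h1 h2
      interval_cases j
      norm_num
  · refine nb_small hc (fun hd => H852.IMJTwo.im_j2 h hd) fun hd => ?_
    have h4 := prime_cases (n := 604800) Fact.out [2, 2, 2, 2, 2, 2, 2, 3, 3, 3, 5, 5, 7] (by decide)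
      ((dvd_pow_self p two_ne_zero).trans hd) (by decide)
    simp only [List.mem_cons, List.not_mem_nil, or_false] at h4
    rcases h4 with rfl | rfl | rfl | rfl | rfl | rfl | rfl | rfl | rfl | rfl | rfl | rfl | rfl <;>
      revert hd h2 h3 h5 <;> decide

/-! ### `J3` -/

theorem nb_j3 {p : ℕ} [Fact p.Prime] (h2 : p ≠ 2) (S : Type) [Group S] [Finite S] [IsSimpleGroup S]
    (h : Spor.IsoJ3 S) (ih : IH p (Nat.card S)) : NB p S := by
  have hc : Nat.card S = 50232960 := NotCT.Orders.j3 h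
  by_cases h3 : p = 3
  · subst h3
    have f5 : Fact (Nat.Prime 5) := ⟨by norm_num⟩
    obtain ⟨c, hc3, -, hcC⟩ := CpAutJThree.exc h
    obtain ⟨z, hz⟩ : ∃ z : centralizer ({c} : Set S), orderOf z = 5 :=
      exists_prime_orderOf_dvd_card' 5 (by rw [hcC]; norm_num)
    refine nb_of_commute (a := 3) (na_of_card (by rw [hc]; norm_num)) ih hc3 Nat.prime_five (by norm_num)
      (z := (z : S)) (by rw [Subgroup.orderOf_coe, hz]) (mem_centralizer_singleton_iff.1 z.2) ?_ ?_
    · rw [hcC]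
      norm_num
    · intro j h1 h2
      interval_cases j <;> norm_num
  · refine nb_small hc (fun hd => H724.IMJThree.im_j3 h hd) fun hd => ?_
    have h4 := prime_cases (n := 50232960) Fact.out [2, 2, 2, 2, 2, 2, 2, 3, 3, 3, 3, 3, 5, 17, 19] (by decide)
      ((dvd_pow_self p two_ne_zero).trans hd) (by decide)
    simp only [List.mem_cons, List.not_mem_nil, or_false] at h4
    rcases h4 with rfl | rfl | rfl | rfl | rfl | rfl | rfl | rfl | rfl | rfl | rfl | rfl | rfl | rfl | rfl <;>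
      revert hd h2 h3 <;> decide

end Cfsg.Agent.H119.NB
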