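import Cfsg.Agent.H119.NB.Base
import Cfsg.Agent.H978.NB.Char
import Cfsg.Agent.H852.IMMathieu2
import Cfsg.Agent.H968.TwoM23
import Cfsg.Agent.H968.TwoM22Fact

/-!
# Nonprincipal blocks: the Mathieu groups (helper119, hub S5003)

`nb_m11`, `nb_m12`, `nb_m22`, `nb_m23`, `nb_m24`
-/

set_option autoImplicit false

namespace Cfsg.Agent.H119.NB

open Cfsg Subgroup Cfsg.Agent.H7.NBp Cfsg.Agent.H718.NBIH Cfsg.Agent.H33 Cfsg.Agent.H978.NB
open Cfsg.Agent.H852.IMMathieu Cfsg.Agent.H852.IMPerm

/-- `p² ∤ |S|` -/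
theorem nb_small {p : ℕ} [hp : Fact p.Prime] {S : Type} [Group S] [Finite S] [IsSimpleGroup S] {n : ℕ}
    (hn : Nat.card S = n) (him : p ∣ Nat.card S → IM p S) (h : ¬ p ^ 2 ∣ n) : NB p S := by
  by_cases hd : p ∣ Nat.card S
  · exact nb_of_im (him hd) (by rw [hn]; exact h)
  · exact NB.of_not_dvd hd

/-! ### `M11` -/

theorem im9_m11 {S : Type*} [Group S] (h : Spor.IsoM11 S) : IM 9 S := by
  obtain ⟨e⟩ := h
  refine IM.of_equiv e ?_
  refine im_perm_four Spor.M11 ((Spor.squareDodecad : Set GolayPt) \ {some 0}) ?_ 4 ?_ le_rfl (n := 11) ?_ (by norm_num) ?_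
  · intro g hg x hx
    refine ⟨Cfsg.Agent.CoThreeStd.M12.smul_mem' hg.1 hx.1, fun h1 => hx.2 ?_⟩
    have h2 : g (some 0) = some 0 := hg.2
    exact g.injective ((show g x = some 0 from h1).trans h2.symm)
  · intro x y hx hy
    have hinj : ∀ z : Fin 4 ↪ GolayPt, (∀ i, z i ∈ (Spor.squareDodecad : Set GolayPt) \ {some 0}) →
        Function.Injective (Fin.cons (some 0) z : Fin 5 → GolayPt) := by
      intro z hz
      rw [Fin.cons_injective_iff]
      refine ⟨?_, z.injective⟩
      rintro ⟨i, hi⟩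
      exact (hz i).2 hi
    have hmem : ∀ z : Fin 4 ↪ GolayPt, (∀ i, z i ∈ (Spor.squareDodecad : Set GolayPt) \ {some 0}) →
        ∀ i, (Fin.cons (some 0) z : Fin 5 → GolayPt) i ∈ Spor.squareDodecad := by
      intro z hz i
      refine Fin.cases ?_ (fun j => ?_) i
      · exact zero_mem
      · exact (hz j).1
    obtain ⟨g, hg, -⟩ := Cfsg.Agent.S0384.result _ dod_mem ⟨_, hinj x hx⟩ ⟨_, hinj y hy⟩ (hmem x hx) (hmem y hy)
    exact ⟨((g : M24) : Equiv.Perm GolayPt), ⟨⟨(g : M24).2, g.2⟩, hg 0⟩, fun i => hg i.succ⟩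
  · rw [Nat.card_coe_set_eq, Set.ncard_sdiff_singleton_of_mem (by exact zero_mem), Set.ncard_coe_finset,
      card_dod dod_mem]
  · decide

theorem nb_m11 {p : ℕ} [Fact p.Prime] (h2 : p ≠ 2) (S : Type) [Group S] [Finite S] [IsSimpleGroup S]
    (h : Spor.IsoM11 S) (_ih : IH p (Nat.card S)) : NB p S := by
  have hc : Nat.card S = 7920 := NotCT.Orders.m11 h
  by_cases h3 : p = 3
  · subst h3
    exact nb_of_im_pow (k := 1) (im9_m11 h) (by rw [hc]; norm_num)
  · refine nb_small hc (fun hd => im_m11 h hd) fun hd => ?_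
    have h4 := prime_cases (n := 7920) Fact.out [2, 2, 2, 2, 3, 3, 5, 11] (by decide)
      ((dvd_pow_self p two_ne_zero).trans hd) (by decide)
    simp only [List.mem_cons, List.not_mem_nil, or_false] at h4
    rcases h4 with rfl | rfl | rfl | rfl | rfl | rfl | rfl | rfl <;> revert hd h2 h3 <;> decide

/-! ### `M12` -/

theorem im27_m12 {S : Type*} [Group S] (h : Spor.IsoM12 S) : IM 27 S := by
  obtain ⟨e⟩ := h
  refine IM.of_equiv e ?_
  refine im_perm_four Spor.M12 (Spor.squareDodecad : Set GolayPt) ?_ 5 ?_ (by norm_num) (n := 12) ?_ (by norm_num) ?_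
  · intro g hg x hx
    exact Cfsg.Agent.CoThreeStd.M12.smul_mem' hg hx
  · intro x y hx hy
    obtain ⟨g, hg, -⟩ := Cfsg.Agent.S0384.result _ dod_mem x y hx hy
    exact ⟨((g : M24) : Equiv.Perm GolayPt), ⟨(g : M24).2, g.2⟩, hg⟩
  · rw [Nat.card_coe_set_eq, Set.ncard_coe_finset, card_dod dod_mem]
  · decide

theorem nb_m12 {p : ℕ} [Fact p.Prime] (h2 : p ≠ 2) (S : Type) [Group S] [Finite S] [IsSimpleGroup S]
    (h : Spor.IsoM12 S) (_ih : IH p (Nat.card S)) : NB p S := by
  have hc : Nat.card S = 95040 := NotCT.Orders.m12 h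
  by_cases h3 : p = 3
  · subst h3
    exact nb_of_im_pow (k := 2) (im27_m12 h) (by rw [hc]; norm_num)
  · refine nb_small hc (fun hd => im_m12 h hd) fun hd => ?_
    have h4 := prime_cases (n := 95040) Fact.out [2, 2, 2, 2, 2, 2, 3, 3, 3, 5, 11] (by decide)
      ((dvd_pow_self p two_ne_zero).trans hd) (by decide)
    simp only [List.mem_cons, List.not_mem_nil, or_false] at h4
    rcases h4 with rfl | rfl | rfl | rfl | rfl | rfl | rfl | rfl | rfl | rfl | rfl <;> revert hd h2 h3 <;> decide

/-! ### `M23`, `M24` -/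

theorem nb_m23 {p : ℕ} [Fact p.Prime] (h2 : p ≠ 2) (S : Type) [Group S] [Finite S] [IsSimpleGroup S]
    (h : Spor.IsoM23 S) (ih : IH p (Nat.card S)) : NB p S := by
  have hc : Nat.card S = 10200960 := NotCT.Orders.m23 h
  by_cases h3 : p = 3
  · subst h3
    obtain ⟨e⟩ := h
    obtain ⟨y, z, hy, hz, hyz, -⟩ := (H968.TwoM23.five.congr e.symm).five
    refine nb_of_commute (a := 2) (na_of_card (by rw [hc]; norm_num)) ih hz Nat.prime_five (by norm_num) hy hyz ?_ ?_
    · intro hd
      have h3 := hd.trans (Subgroup.card_subgroup_dvd_card _)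
      rw [hc] at h3
      norm_num at h3
    · intro j h1 h2
      interval_cases j
      norm_num
  · refine nb_small hc (fun hd => im_m23 h hd) fun hd => ?_
    have h4 := prime_cases (n := 10200960) Fact.out [2, 2, 2, 2, 2, 2, 2, 3, 3, 5, 7, 11, 23] (by decide)
      ((dvd_pow_self p two_ne_zero).trans hd) (by decide)
    simp only [List.mem_cons, List.not_mem_nil, or_false] at h4
    rcases h4 with rfl | rfl | rfl | rfl | rfl | rfl | rfl | rfl | rfl | rfl | rfl | rfl | rfl <;> revert hd h2 h3 <;> decide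

theorem nb_m24 {p : ℕ} [Fact p.Prime] (h2 : p ≠ 2) (S : Type) [Group S] [Finite S] [IsSimpleGroup S]
    (h : Spor.IsoM24 S) (ih : IH p (Nat.card S)) : NB p S := by
  have hc : Nat.card S = 244823040 := NotCT.Orders.m24 h
  by_cases h3 : p = 3
  · subst h3
    obtain ⟨e⟩ := h
    obtain ⟨y, z, hy, hz, hyz, -⟩ := H968.TwoM23.five.five
    have inj : Function.Injective (e.symm.toMonoidHom.comp H968.TwoM23.inc) :=
      e.symm.injective.comp H968.TwoM23.inc_injective
    refine nb_of_commute (a := 3) (y := (e.symm.toMonoidHom.comp H968.TwoM23.inc) z)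
      (z := (e.symm.toMonoidHom.comp H968.TwoM23.inc) y) (na_of_card (by rw [hc]; norm_num)) ih
      (by rw [orderOf_injective _ inj, hz]) Nat.prime_five (by norm_num)
      (by rw [orderOf_injective _ inj, hy]) (by rw [← map_mul, hyz, map_mul]) ?_ ?_
    · intro hd
      have h3 := hd.trans (Subgroup.card_subgroup_dvd_card _)
      rw [hc] at h3
      norm_num at h3
    · intro j h1 h2
      interval_cases j <;> norm_num
  · refine nb_small hc (fun hd => im_m24 h hd) fun hd => ?_
    have h4 := prime_cases (n := 244823040) Fact.out [2, 2, 2, 2, 2, 2, 2, 2, 2, 2, 3, 3, 3, 5, 7, 11, 23] (by decide)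
      ((dvd_pow_self p two_ne_zero).trans hd) (by decide)
    simp only [List.mem_cons, List.not_mem_nil, or_false] at h4
    rcases h4 with rfl | rfl | rfl | rfl | rfl | rfl | rfl | rfl | rfl | rfl | rfl | rfl | rfl | rfl | rfl | rfl | rfl <;>
      revert hd h2 h3 <;> decide

/-! ### `M22` -/

section

open Cfsg.Agent.SporadicA.GolayBase Cfsg.Agent.SporadicA.GolayPerm
open Cfsg.Agent.SporadicStructure.M24El Cfsg.Agent.H729.Trans Cfsg.Agent.H729.MData Cfsg.Agent.H729.Count
open Cfsg.Agent.H729.M24Deg Cfsg.Agent.H729.M22Deg Cfsg.Agent.H968.TwoM22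

def kd : ℕ := 969061298980935713370433084902101120
def kv : ℕ := 972486218560885713323351588958472320
def kw : ℕ := 968754537289126987927570659913337280

theorem okd : ok kd = true := by decide +kernel
theorem okv : ok kv = true := by decide +kernel
theorem okw : ok kw = true := by decide +kernel

theorem comm_of {a b : ℕ} (ha : ok a = true) (hb : ok b = true) {x y : Spor.M22} (hx : inc x = el a) (hy : inc y = el b)
    (h : Nat.beq (pcomp a b) (pcomp b a) = true) : x * y = y * x := by
  apply inc_eq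
  rw [map_mul, map_mul, hx, hy, ← el_pcomp ha hb, ← el_pcomp hb ha, Nat.eq_of_beq_eq_true h]

theorem mul_of {a b c d : ℕ} (ha : ok a = true) (hb : ok b = true) (hc : ok c = true) (hd : ok d = true)
    {x y z w : Spor.M22} (hx : inc x = el a) (hy : inc y = el b) (hz : inc z = el c) (hw : inc w = el d)
    (h : Nat.beq (pcomp a b) (pcomp c d) = true) : x * y = z * w := by
  apply inc_eq
  rw [map_mul, map_mul, hx, hy, hz, hw, ← el_pcomp ha hb, ← el_pcomp hc hd, Nat.eq_of_beq_eq_true h]

theorem ne_of {a b : ℕ} (ha : ok a = true) (hb : ok b = true) {x y : Spor.M22} (hx : inc x = el a) (hy : inc y = el b)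
    (i : ℕ) (hi : i < 24) (h : Nat.beq (papp a i) (papp b i) = false) : x ≠ y := by
  intro e
  rw [e, hy] at hx
  have h1 := idx_el_smul ha (pt i)
  rw [← hx, idx_el_smul hb (pt i), idx_pt hi] at h1
  rw [h1, Nat.beq_refl] at h
  exact Bool.noConfusion h

theorem nb3_m22 : NB 3 Spor.M22 := by
  have hfin : Finite Spor.M22 := Nat.finite_of_card_ne_zero (by rw [H729.M22Deg.card_M22]; norm_num)
  obtain ⟨s, hs⟩ := exists_el ok_s (by decide +kernel) (by decide +kernel)
  obtain ⟨d, hd⟩ := exists_el okd (by decide +kernel) (by decide +kernel)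
  obtain ⟨v, hv⟩ := exists_el okv (by decide +kernel) (by decide +kernel)
  obtain ⟨w, hw⟩ := exists_el okw (by decide +kernel) (by decide +kernel)
  have e1 : ∀ {x : Spor.M22} {c : ℕ}, inc x = el c → ok c = true → Nat.beq (pcomp c c) idP = true → x * x = 1 := by
    intro x c hx hc h
    apply inc_eq
    rw [map_mul, hx, ← el_pcomp hc hc, Nat.eq_of_beq_eq_true h, el_idP, map_one]
  have e2 : ∀ {x : Spor.M22} {c : ℕ}, inc x = el c → ok c = true → Nat.beq (papp c 1) 1 = false → x ≠ 1 := by
    intro x c hx hc h h1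
    rw [h1, map_one] at hx
    exact el_ne_one hc 1 (by norm_num) h hx.symm
  have ho : ∀ {x : Spor.M22}, orderOf (inc x) = orderOf x := fun {x} => orderOf_injective inc inc_injective x
  have hs3 : orderOf s = 3 := by rw [← ho, hs, os]
  have hd3 : orderOf d = 3 := by
    rw [← ho, hd]
    exact orderOf_el p3 okd (by decide +kernel) 1 (by norm_num) (by decide +kernel)
  have hvw : inc (v * w) = el (pcomp kv kw) := by rw [map_mul, hv, hw, el_pcomp okv okw]
  refine nb_of_four' (x := s) (d := d) (v := v) (w := w) hs3 (cent_s hs).le hd3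
    (comm_of okd ok_s hd hs (by decide +kernel)) ?_
    (e1 hv okv (by decide +kernel)) (e1 hw okw (by decide +kernel)) (comm_of okv okw hv hw (by decide +kernel))
    (e2 hv okv (by decide +kernel)) (e2 hw okw (by decide +kernel))
    (ne_of okv okw hv hw 1 (by norm_num) (by decide +kernel))
    (comm_of okv ok_s hv hs (by decide +kernel)) (comm_of okw ok_s hw hs (by decide +kernel))
    (mul_of okd okv okw okd hd hv hw hd (by decide +kernel))
    (mul_of okd okw (ok_pcomp okv okw) okd hd hw hvw hd (by decide +kernel))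
  intro hz
  have h1 : d ∈ Submonoid.powers s := by
    rw [mem_powers_iff_mem_zpowers]
    exact hz
  obtain ⟨k, hk⟩ := h1
  have h2 : s ^ (k % 3) = d := by
    rw [← hk, ← hs3, pow_mod_orderOf]
  have h3 : k % 3 < 3 := Nat.mod_lt _ (by norm_num)
  interval_cases (k % 3)
  · rw [pow_zero] at h2
    exact e2 hd okd (by decide +kernel) h2.symm
  · rw [pow_one] at h2
    exact ne_of okd ok_s hd hs 1 (by norm_num) (by decide +kernel) h2.symm
  · refine ne_of okd (ok_ppow ok_s 2) hd (y := s ^ 2) ?_ 1 (by norm_num) (by decide +kernel) h2.symm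
    rw [map_pow, hs, el_ppow ok_s]

end

theorem nb_m22 {p : ℕ} [Fact p.Prime] (h2 : p ≠ 2) (S : Type) [Group S] [Finite S] [IsSimpleGroup S]
    (h : Spor.IsoM22 S) (_ih : IH p (Nat.card S)) : NB p S := by
  have hc : Nat.card S = 443520 := NotCT.Orders.m22 h
  by_cases h3 : p = 3
  · subst h3
    obtain ⟨e⟩ := h
    have hfin : Finite Spor.M22 := Finite.of_equiv S e.toEquiv
    exact NB.iso e.symm nb3_m22
  · refine nb_small hc (fun hd => im_m22 h hd) fun hd => ?_
    have h4 := prime_cases (n := 443520) Fact.out [2, 2, 2, 2, 2, 2, 2, 3, 3, 5, 7, 11] (by decide)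
      ((dvd_pow_self p two_ne_zero).trans hd) (by decide)
    simp only [List.mem_cons, List.not_mem_nil, or_false] at h4
    rcases h4 with rfl | rfl | rfl | rfl | rfl | rfl | rfl | rfl | rfl | rfl | rfl | rfl <;> revert hd h2 h3 <;> decide

end Cfsg.Agent.H119.NB
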